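import Groth.Agent.Lib.InjFlat13.Main
import Groth.Agent.Lib.AssPts.Flat
import Groth.Agent.Lib.OX.LocFreeTensor

/-!
# Flatness of a morphism from its base change by itself
-/

set_option autoImplicit false
set_option backward.isDefEq.respectTransparency false
set_option linter.style.haveILetI false

universe u

open CategoryTheory CategoryTheory.Limits AlgebraicGeometry Opposite TopologicalSpace

noncomputable section

namespace GrothLib.InjFlat13

theorem isFP_structureModule (X : Scheme.{u}) : CohB1.IsFP (Coh.structureModule X) :=
  haveI : (Coh.structureModule X).IsQuasicoherent := WeakAss.isQuasicoherent_structureModule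
  FlatFP.isFP_of_sections _ (fun U : X.affineOpens => U.1) (iSup_affineOpens_eq_top X) (fun U => U.2) fun U =>
    inferInstanceAs (Module.FinitePresentation Γ(X, U.1) Γ(X, U.1))

theorem flat_stalkMap_of_isFlatOverAt {X Y : Scheme.{u}} (f : X ⟶ Y) (x : X)
    (h : FlatMod.IsFlatOverAt f (Coh.structureModule X) x) : (f.stalkMap x).hom.Flat := by
  obtain ⟨e⟩ := AssPts.exists_stalk_unit_equiv x
  let _ := FlatMod.moduleStalkOver f (Coh.structureModule X) x
  let _ := (f.stalkMap x).hom.toAlgebra
  have : IsScalarTower (Y.presheaf.stalk (f x)) (X.presheaf.stalk x) ((Coh.structureModule X).presheaf.stalk x) :=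
    IsScalarTower.of_algebraMap_smul fun _ _ => rfl
  have : Module.Flat (Y.presheaf.stalk (f x)) ((Coh.structureModule X).presheaf.stalk x) := h
  exact (Module.Flat.of_linearEquiv (e.restrictScalars (Y.presheaf.stalk (f x))) :
    Module.Flat (Y.presheaf.stalk (f x)) (X.presheaf.stalk x))

/-- A proper morphism injective on functions with flat self base change is flat. -/
theorem flat_of_flat_fst {X Y : Scheme.{u}} (f : X ⟶ Y) [IsProper f] [LocallyOfFinitePresentation f]
    (hinj : ∀ V : Y.Opens, Function.Injective (f.app V)) [Flat (pullback.fst f f)] : Flat f := by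
  refine Flat.of_stalkMap _ fun x => flat_stalkMap_of_isFlatOverAt f x ?_
  haveI : (Coh.structureModule X).IsQuasicoherent := WeakAss.isQuasicoherent_structureModule
  haveI : Flat (pullback.snd f f) := by
    rw [← pullbackSymmetry_hom_comp_fst]; infer_instance
  refine isFlatOverAt_of_baseChange f _ (isFP_structureModule X) x f (IsPullback.of_hasPullback f f)
    (injective_toGlobal_stalk f (f x) fun V s hV hs => ⟨V, hV, le_rfl, ?_⟩) fun z _ => ?_
  · rw [show homOfLE (le_refl V) = 𝟙 V from rfl, op_id, CategoryTheory.Functor.map_id]
    exact hinj V (hs.trans (map_zero _).symm)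
  · exact (FlatFP.isFlatOverAt_congr _ (OX.pullUnitIso (pullback.fst f f)) z).2
      (AssPts.isFlatOverAt_structure (pullback.snd f f) z)

end GrothLib.InjFlat13
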