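import Groth.Agent.Lib.FormalFn.Main
import Groth.Agent.Lib.FormalFun.Stalk
import Groth.Agent.Lib.Stein.Finite
import Groth.Agent.Lib.AssPts.Flat
import Groth.Agent.Lib.FormalSys.Quot
import Mathlib.RingTheory.Filtration

/-!
# Functions on a proper scheme over a local ring and the adic topology of the base
-/

set_option autoImplicit false
set_option backward.isDefEq.respectTransparency false
set_option linter.style.haveILetI false

universe u

open CategoryTheory CategoryTheory.Limits AlgebraicGeometry Opposite TopologicalSpace IsLocalRing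

noncomputable section

namespace GrothLib.InjFlat13

variable {R : Type u} [CommRing R] {P : Scheme.{u}} (g : P ⟶ Spec (CommRingCat.of R))

/-- The base ring mapped to a local ring of `P`. -/
def toSt (w : P) : R →+* P.presheaf.stalk w :=
  (P.presheaf.germ ⊤ w trivial).hom.comp (show R →+* Γ(P, ⊤) from Coh.toGlobal g)

theorem fromSpecStalk_comp (w : P) :
    P.fromSpecStalk w ≫ g = Spec.map (CommRingCat.ofHom (toSt g w)) := by
  have h : P.toSpecΓ ≫ Spec.map g.appTop ≫ Spec.map (Scheme.ΓSpecIso (CommRingCat.of R)).inv = g := by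
    rw [← Category.assoc, ← Scheme.toSpecΓ_naturality, Category.assoc, ← SpecMap_ΓSpecIso_hom,
      ← Spec.map_comp, Iso.inv_hom_id, Spec.map_id, Category.comp_id]
  conv_lhs => rw [← h]
  rw [← Category.assoc, Scheme.fromSpecStalk_toSpecΓ, ← Spec.map_comp, ← Spec.map_comp]
  rfl

/-- A point lies over the closed point iff the maximal ideal maps into its maximal ideal. -/
theorem apply_eq_closedPoint_iff [IsLocalRing R] (w : P) :
    g w = closedPoint (CommRingCat.of R) ↔
      maximalIdeal R ≤ (maximalIdeal (P.presheaf.stalk w)).comap (toSt g w) := by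
  have h : g w = Spec.map (CommRingCat.ofHom (toSt g w)) (closedPoint (P.presheaf.stalk w)) := by
    rw [← fromSpecStalk_comp, Scheme.Hom.comp_apply]
    exact congrArg g (Scheme.fromSpecStalk_closedPoint (X := P) (x := w)).symm
  rw [h, PrimeSpectrum.ext_iff]
  constructor
  · intro e
    exact e.ge
  · intro e
    exact ((maximalIdeal.isMaximal R).eq_of_le (Ideal.IsPrime.ne_top inferInstance) e).symm

theorem isLocalHom_toSt [IsLocalRing R] (w : P) (hw : g w = closedPoint (CommRingCat.of R)) :
    IsLocalHom (toSt g w) := by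
  refine ⟨fun a ha => ?_⟩
  by_contra hn
  exact (mem_maximalIdeal _).1 ((apply_eq_closedPoint_iff g w).1 hw ((mem_maximalIdeal _).2 hn)) ha

/-- **Chevalley's lemma for the functions on a proper scheme**: if a proper scheme over a Noetherian local
ring has no function from the base vanishing on it, then the congruences at the closed fibre define the
adic topology of the base. -/
theorem exists_pow_le [IsNoetherianRing R] [IsLocalRing R] [IsProper g]
    (hinj : Function.Injective (Coh.toGlobal g)) (N : ℕ) :
    ∃ n : ℕ, ∀ a : R, (∀ w : P, g w = closedPoint (CommRingCat.of R) →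
      toSt g w a ∈ (maximalIdeal R ^ (n + 1)).map (toSt g w)) → a ∈ maximalIdeal R ^ N := by
  letI : P.Over (Spec (CommRingCat.of R)) := ⟨g⟩
  haveI : IsProper (P ↘ Spec (CommRingCat.of R)) := ‹IsProper g›
  haveI : IsLocallyNoetherian P := LocallyOfFiniteType.isLocallyNoetherian g
  let I := maximalIdeal R
  let M := Coh.structureModule P
  have hM : Coh.IsCoh M := GrothLib.HomSh.isCoh_structureModule P
  haveI : Module.Finite R (Coh.HH P M 0) := Groth.Agent.S0002.result R P M hM 0
  let one : Coh.HH P M 0 := (ProjCoh.H0top M).symm (show Γ(M, ⊤) from (1 : Γ(P, ⊤)))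
  let L : R →ₗ[R] Coh.HH P M 0 := LinearMap.toSpanSingleton R _ one
  have hone : ProjCoh.H0top M one = (show Γ(M, ⊤) from (1 : Γ(P, ⊤))) := AddEquiv.apply_symm_apply _ _
  have hL : ∀ a, (show Γ(P, ⊤) from ProjCoh.H0top M (L a)) = (show Γ(P, ⊤) from Coh.toGlobal g a) := fun a => by
    show (show Γ(P, ⊤) from ProjCoh.H0top M (a • one)) = _
    refine (ProjCoh.H0top_smul M a one).trans ?_
    rw [hone]
    exact mul_one (show Γ(P, ⊤) from Coh.toGlobal g a)
  have hLinj : Function.Injective L := fun a b h => by
    refine hinj ?_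
    have := congrArg (fun t => (show Γ(P, ⊤) from ProjCoh.H0top M t)) h
    exact (hL a).symm.trans (this.trans (hL b))
  obtain ⟨c, hc⟩ := GrothLib.FormalFn.kernels_adically_small I M hM 0
  obtain ⟨k, hk⟩ := Ideal.exists_pow_inf_eq_pow_smul I (LinearMap.range L)
  refine ⟨c + k + N, fun a ha => ?_⟩
  have hker : L a ∈ (Formal.toHHmodPow I M 0 (c + k + N)).ker := by
    rw [AddMonoidHom.mem_ker]
    let π := Formal.modPowπ I (c + k + N + 1) M
    refine (ProjCoh.H0top (Formal.modPow I (c + k + N + 1) M)).injective ?_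
    rw [map_zero]
    refine (ProjCoh.H0top_map ((SheafOfModules.toSheaf _).map π) (L a)).trans ?_
    refine TopCat.Presheaf.section_ext ((SheafOfModules.toSheaf _).obj (Formal.modPow I (c + k + N + 1) M)) ⊤ _ _
      fun w hw => ?_
    refine Eq.trans ?_ (map_zero _).symm
    show (Formal.modPow I (c + k + N + 1) M).presheaf.germ ⊤ w hw (π.app ⊤ (ProjCoh.H0top M (L a))) = 0
    rw [← QCoh.stalkLin_germ π hw, ← LinearMap.mem_ker,
      FormalFun.ker_stalkLin_of_isQuot (FormalSys.IsQuot.modPowπ I (c + k + N + 1) M) w]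
    by_cases hcl : g w = closedPoint (CommRingCat.of R)
    · have e : M.presheaf.germ ⊤ w hw (ProjCoh.H0top M (L a)) = toSt g w a •
          M.presheaf.germ ⊤ w hw (show Γ(M, ⊤) from (1 : Γ(P, ⊤))) := by
        show _ = P.presheaf.germ ⊤ w hw (show Γ(P, ⊤) from Coh.toGlobal g a) • _
        rw [← WeakAss.germ_smul]
        refine congrArg _ ((hL a).trans ?_)
        exact (mul_one (show Γ(P, ⊤) from Coh.toGlobal g a)).symm
      rw [e]
      exact Submodule.smul_mem_smul (ha w hcl) Submodule.mem_top
    · rw [apply_eq_closedPoint_iff, SetLike.not_le_iff_exists] at hcl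
      obtain ⟨b, hb, hbw⟩ := hcl
      have htop : (I ^ (c + k + N + 1)).map (FormalFun.toStalk R w) = ⊤ := by
        refine Ideal.eq_top_of_isUnit_mem _ (x := toSt g w (b ^ (c + k + N + 1))) ?_ ?_
        · exact Ideal.mem_map_of_mem _ (Ideal.pow_mem_pow hb _)
        · rw [map_pow]
          exact (notMem_maximalIdeal.1 hbw).pow _
      rw [htop, Submodule.top_smul]
      trivial
  have h1 := hc (c + k + N) (by omega) hker
  have h2 : L a ∈ I ^ (c + k + N - c) • (⊤ : Submodule R (Coh.HH P M 0)) ⊓ LinearMap.range L := ⟨h1, a, rfl⟩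
  rw [hk _ (by omega)] at h2
  have h3 : L a ∈ Submodule.map L (I ^ N • (⊤ : Submodule R R)) := by
    rw [Submodule.map_smul'', Submodule.map_top]
    rw [show c + k + N - c - k = N by omega] at h2
    exact Submodule.smul_mono le_rfl inf_le_right h2
  rw [Ideal.smul_eq_mul, Ideal.mul_top] at h3
  obtain ⟨b, hb, hba⟩ := h3
  rwa [hLinj hba] at hb

/-- Injectivity of the functions of the base passes to a subring, along a commutative square. -/
theorem injective_toGlobal_of_square {A : Type u} [CommRing A] {Q : Scheme.{u}}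
    (gA : Q ⟶ Spec (CommRingCat.of A)) (φ : R →+* A) (q : Q ⟶ P)
    (hq : q ≫ g = gA ≫ Spec.map (CommRingCat.ofHom φ)) (hφ : Function.Injective φ)
    (h : Function.Injective (Coh.toGlobal gA)) : Function.Injective (Coh.toGlobal g) := by
  intro a b e
  refine hφ (h ?_)
  have key : (Scheme.ΓSpecIso (CommRingCat.of R)).inv ≫ g.appTop ≫ q.appTop =
      CommRingCat.ofHom φ ≫ (Scheme.ΓSpecIso (CommRingCat.of A)).inv ≫ gA.appTop := by
    rw [← Scheme.Hom.comp_appTop, hq, Scheme.Hom.comp_appTop, ← Category.assoc, ← Scheme.ΓSpecIso_inv_naturality,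
      Category.assoc]
  have := congrArg q.appTop.hom e
  exact (ConcreteCategory.congr_hom key a).symm.trans (this.trans (ConcreteCategory.congr_hom key b))

end GrothLib.InjFlat13
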