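import Groth.Agent.Lib.ModDesc5.FlatStage
import Groth.Agent.Lib.ModLim8.Blowup

/-!
# Flatness above a point after a proper base change comes from a Noetherian stage
-/

set_option autoImplicit false
set_option backward.isDefEq.respectTransparency false
set_option linter.style.haveILetI false
set_option maxHeartbeats 1000000

universe u

open CategoryTheory CategoryTheory.Limits AlgebraicGeometry Opposite TopologicalSpace

noncomputable section

namespace GrothLib.InjFlat13

open GrothLib.LimDesc GrothLib.ModDesc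
open GrothLib.LimDescend (Model)

variable {I : Type u} [SmallCategory I] [IsCofiltered I] {D : I ⥤ Scheme.{u}} {c : Cone D} (hc : IsLimit c)
  [∀ (i j : I) (f : i ⟶ j), IsAffineHom (D.map f)] [∀ i, IsAffine (D.obj i)] [∀ i, IsLocallyNoetherian (D.obj i)]
  [∀ i, CompactSpace (D.obj i)] [∀ i, QuasiSeparatedSpace (D.obj i)]

include hc in
theorem exists_stage_flat_above {X P : Scheme.{u}} (f : X ⟶ c.pt) [LocallyOfFinitePresentation f]
    [QuasiCompact f] [QuasiSeparated f] (F : X.Modules) [F.IsQuasicoherent] (hF : CohB1.IsFP F) (x : X)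
    (g : P ⟶ c.pt) [IsProper g] [LocallyOfFinitePresentation g]
    (hflat : ∀ z : ↥(pullback f g), pullback.fst f g z = x →
      FlatMod.IsFlatOverAt (pullback.snd f g) ((Scheme.Modules.pullback (pullback.fst f g)).obj F) z) :
    ∃ (k : I) (M : Model D c f k) (G : M.obj.Modules) (N : Model D c g k) (Z : Scheme.{u}) (p : Z ⟶ M.obj)
      (q : Z ⟶ N.obj), IsPullback p q M.hom N.hom ∧ IsProper N.hom ∧ Coh.IsCoh G ∧
        Nonempty ((Scheme.Modules.pullback M.proj).obj G ≅ F) ∧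
        ∀ z, p z = M.proj x → FlatMod.IsFlatOverAt q ((Scheme.Modules.pullback p).obj G) z := by
  classical
  obtain ⟨j₁, M', G', hG', ⟨e'⟩⟩ := ModDesc5.exists_stage_module hc (f := f) F hF
  obtain ⟨j₂, N', hN'⟩ := ModLim8.exists_model_proper D c hc g
  let i₀ := IsCofiltered.min j₁ j₂
  let M₀ := M'.map D c (IsCofiltered.minToLeft j₁ j₂)
  let N₀ := N'.map D c (IsCofiltered.minToRight j₁ j₂)
  let G₀ : M₀.obj.Modules := (Scheme.Modules.pullback (pullback.fst M'.hom (D.map (IsCofiltered.minToLeft j₁ j₂)))).obj G'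
  have hG₀ : Coh.IsCoh G₀ := isCoh_pullback _ G' hG'
  haveI := hG₀.1
  obtain ⟨e₀⟩ := exists_pullback_iso M' (IsCofiltered.minToLeft j₁ j₂) G' F e'
  haveI hN₀ : IsProper N₀.hom :=
    MorphismProperty.pullback_snd (P := @IsProper) _ _ hN'
  haveI : IsLocallyNoetherian M₀.obj := isLocallyNoetherian_model M₀
  haveI : LocallyOfFinitePresentation M₀.hom := M₀.lfp
  let f₀ : pullback M₀.hom N₀.hom ⟶ N₀.obj := pullback.snd _ _
  let g₀ : N₀.obj ⟶ D.obj i₀ := N₀.hom
  haveI : LocallyOfFinitePresentation f₀ :=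
    inferInstanceAs (LocallyOfFinitePresentation (pullback.snd M₀.hom N₀.hom))
  let qX : pullback f g ⟶ pullback M₀.hom N₀.hom :=
    pullback.lift (pullback.fst f g ≫ M₀.proj) (pullback.snd f g ≫ N₀.proj) (by
      rw [Category.assoc, Category.assoc, M₀.isPullback.w, N₀.isPullback.w, ← Category.assoc, pullback.condition,
        Category.assoc])
  have hY : IsPullback N₀.proj g g₀ (c.π.app i₀) := N₀.isPullback
  have hX : IsPullback qX (pullback.snd f g) f₀ N₀.proj := by
    refine IsPullback.of_right ?_ (pullback.lift_snd _ _ _) (IsPullback.of_hasPullback M₀.hom N₀.hom)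
    rw [pullback.lift_fst, hY.w]
    exact (IsPullback.of_hasPullback f g).paste_horiz M₀.isPullback
  let F₀ := (Scheme.Modules.pullback (pullback.fst M₀.hom N₀.hom)).obj G₀
  haveI : F₀.IsQuasicoherent := FittSheaf.isQuasicoherent_pullback _ G₀
  haveI : IsLocallyNoetherian (pullback M₀.hom N₀.hom) := by
    haveI : IsLocallyNoetherian N₀.obj := isLocallyNoetherian_model N₀
    exact LocallyOfFiniteType.isLocallyNoetherian f₀
  have hF₀ : CohB1.IsFP F₀ :=
    QCoh.isFinitePresentation_of_isFiniteType F₀ (isCoh_pullback _ G₀ hG₀).2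
  have eqX : (Scheme.Modules.pullback qX).obj F₀ ≅ (Scheme.Modules.pullback (pullback.fst f g)).obj F :=
    (Scheme.Modules.pullbackComp _ _).app G₀ ≪≫
      (Scheme.Modules.pullbackCongr (pullback.lift_fst _ _ _)).app G₀ ≪≫
      ((Scheme.Modules.pullbackComp _ _).app G₀).symm ≪≫
      (Scheme.Modules.pullback (pullback.fst f g)).mapIso e₀
  let T : Set ↥(pullback f g) := pullback.fst f g ⁻¹' {x}
  have hT : IsCompact T := (pullback.fst f g).isCompact_preimage_singleton x
  let cE := cone D i₀ (f₀ ≫ g₀) (hX.paste_vert hY)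
  haveI (j : Over i₀) : LocallyOfFinitePresentation ((mapNat D i₀ g₀ (f₀ ≫ g₀) f₀ rfl).app j) :=
    MorphismProperty.of_isPullback (P := @LocallyOfFinitePresentation)
      (isPullback_mapNat D i₀ g₀ (f₀ ≫ g₀) f₀ rfl j) inferInstance
  choose jx hjx using fun z : T => FlatLimit.exists_stage_flatAt D hc f₀ g₀ hY hX F₀ hF₀ z.1
    ((FlatFP.isFlatOverAt_congr _ eqX z.1).2 (hflat z.1 z.2))
  let W : ∀ z : T, ((diag D i₀ (f₀ ≫ g₀)).obj (jx z)).Opens := fun z =>
    ⟨_, FlatLimit.isOpen_flatLocus_pullback ((mapNat D i₀ g₀ (f₀ ≫ g₀) f₀ rfl).app (jx z))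
      (pullback.fst (f₀ ≫ g₀) (D.map (jx z).hom)) F₀ hF₀⟩
  let U : T → Set ↥(pullback f g) := fun z => {w | cE.π.app (jx z) w ∈ W z}
  have hUopen : ∀ z, IsOpen (U z) := fun z => (cE.π.app (jx z) ⁻¹ᵁ W z).2
  obtain ⟨t, ht⟩ := hT.elim_finite_subcover U hUopen (fun z hz => Set.mem_iUnion.2 ⟨⟨z, hz⟩, hjx ⟨z, hz⟩⟩)
  obtain ⟨k, -, φ, -⟩ := IsCofiltered.wideCospan (I := {z // z ∈ t}) (i := Over.mk (𝟙 i₀))
    (fun z => (Over.homMk (jx z.1).hom : jx z.1 ⟶ Over.mk (𝟙 i₀)))
  have hk : ∀ z ∈ T, FlatMod.IsFlatOverAt ((mapNat D i₀ g₀ (f₀ ≫ g₀) f₀ rfl).app k)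
      ((Scheme.Modules.pullback (pullback.fst (f₀ ≫ g₀) (D.map k.hom))).obj F₀) (cE.π.app k z) := by
    intro z hz
    obtain ⟨i, hit, hi⟩ := Set.mem_iUnion₂.1 (ht hz)
    refine FlatLimit.flatAt_stage_of_hom D f₀ g₀ F₀ (φ ⟨i, hit⟩) _ ?_
    rw [← Scheme.Hom.comp_apply, cE.w]
    exact hi
  let Mk := M₀.map D c k.hom
  let Nk := N₀.map D c k.hom
  let Gk : Mk.obj.Modules := (Scheme.Modules.pullback (pullback.fst M₀.hom (D.map k.hom))).obj G₀
  let app := (mapNat D i₀ g₀ (f₀ ≫ g₀) f₀ rfl).app k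
  let pk : pullback (f₀ ≫ g₀) (D.map k.hom) ⟶ Mk.obj :=
    pullback.lift (pullback.fst (f₀ ≫ g₀) (D.map k.hom) ≫ pullback.fst M₀.hom N₀.hom)
      (pullback.snd (f₀ ≫ g₀) (D.map k.hom)) (by
        rw [Category.assoc, pullback.condition (f := M₀.hom) (g := N₀.hom)]
        exact pullback.condition)
  have hpk₁ : pk ≫ pullback.fst M₀.hom (D.map k.hom) =
      pullback.fst (f₀ ≫ g₀) (D.map k.hom) ≫ pullback.fst M₀.hom N₀.hom := pullback.lift_fst _ _ _
  have sqk : IsPullback pk app Mk.hom Nk.hom := by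
    refine IsPullback.of_right ?_ ?_ (IsPullback.of_hasPullback M₀.hom (D.map k.hom))
    · rw [hpk₁, ← show pullback.fst g₀ (D.map k.hom) ≫ N₀.hom = Nk.hom ≫ D.map k.hom from pullback.condition]
      exact (isPullback_mapNat D i₀ g₀ (f₀ ≫ g₀) f₀ rfl k).paste_horiz
        (IsPullback.of_hasPullback M₀.hom N₀.hom)
    · exact (pullback.lift_snd _ _ _).trans (mapNat_snd D i₀ g₀ _ f₀ rfl k).symm
  have hM₁ : Mk.proj ≫ pullback.fst M₀.hom (D.map k.hom) = M₀.proj := pullback.lift_fst _ _ _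
  have hM₂ : Mk.proj ≫ pullback.snd M₀.hom (D.map k.hom) = f ≫ c.π.app k.left := pullback.lift_snd _ _ _
  have hN₁ : Nk.proj ≫ pullback.fst g₀ (D.map k.hom) = N₀.proj := pullback.lift_fst _ _ _
  have hN₂ : Nk.proj ≫ pullback.snd g₀ (D.map k.hom) = g ≫ c.π.app k.left := pullback.lift_snd _ _ _
  have e₁ : cE.π.app k ≫ pk = pullback.fst f g ≫ Mk.proj := by
    apply pullback.hom_ext
    · rw [Category.assoc, hpk₁, π_fst_assoc, pullback.lift_fst, Category.assoc, hM₁]
    · rw [Category.assoc, pullback.lift_snd, π_snd, Category.assoc, Category.assoc, hM₂,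
        ← Category.assoc (pullback.fst f g) f, pullback.condition, Category.assoc]
  have e₂ : cE.π.app k ≫ app = pullback.snd f g ≫ Nk.proj := by
    apply pullback.hom_ext
    · rw [Category.assoc, mapNat_fst, π_fst_assoc, Category.assoc, hN₁]
      exact pullback.lift_snd _ _ _
    · rw [Category.assoc, mapNat_snd, π_snd, Category.assoc, Category.assoc, hN₂]
  have sqX : IsPullback (cE.π.app k) (pullback.fst f g) pk Mk.proj := by
    refine IsPullback.of_right ?_ e₁ sqk.flip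
    rw [e₂, Mk.isPullback.w]
    exact (IsPullback.of_hasPullback f g).flip.paste_horiz Nk.isPullback
  refine ⟨k.left, Mk, Gk, Nk, _, pk, app, sqk, ?_, isCoh_pullback _ G₀ hG₀,
    exists_pullback_iso M₀ k.hom G₀ F e₀, fun z hz => ?_⟩
  · exact MorphismProperty.pullback_snd (P := @IsProper) _ _ hN₀
  · obtain ⟨z', rfl, hz'⟩ := Scheme.exists_preimage_of_isPullback sqX z x hz
    refine (FlatFP.isFlatOverAt_congr _ ?_ _).2 (hk z' hz')
    exact (Scheme.Modules.pullbackComp _ _).app G₀ ≪≫ (Scheme.Modules.pullbackCongr hpk₁).app G₀ ≪≫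
      ((Scheme.Modules.pullbackComp _ _).app G₀).symm

end GrothLib.InjFlat13
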