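import Groth.Agent.Lib.InjFlat13.Noeth
import Groth.Agent.Lib.FittSheaf.PullbackFP
import Groth.Agent.Lib.InjFlat13.Stage
import Groth.Agent.Lib.FunFlat6.Point
import Groth.Agent.Lib.FFDesc.Basic
import Groth.Agent.Lib.FlatDesc.Basic

/-!
# Descent of flatness by a proper base change injective on functions
-/

set_option autoImplicit false
set_option backward.isDefEq.respectTransparency false
set_option linter.style.haveILetI false
set_option maxHeartbeats 1000000

universe u

open CategoryTheory CategoryTheory.Limits AlgebraicGeometry Opposite TopologicalSpace IsLocalRing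

noncomputable section

namespace GrothLib.InjFlat13

theorem injective_of_stalk {R A : Type u} [CommRing R] [CommRing A] (p : PrimeSpectrum R)
    (φ : (Spec.structureSheaf R).presheaf.stalk p →+* A)
    (h : Function.Injective (φ.comp (algebraMap R ((Spec.structureSheaf R).presheaf.stalk p)))) :
    Function.Injective φ := by
  rw [injective_iff_map_eq_zero]
  intro z hz
  obtain ⟨⟨a, s⟩, hs⟩ := IsLocalization.surj p.asIdeal.primeCompl z
  have ha : a = 0 := h (by
    rw [RingHom.comp_apply, RingHom.comp_apply, ← hs, map_mul, hz, zero_mul, map_zero, map_zero])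
  rw [ha, map_zero] at hs
  exact (IsLocalization.map_units _ s).mul_left_eq_zero.1 hs

/-- The statement over a local ring. -/
theorem isFlatOverAt_local (A : Type u) [CommRing A] [IsLocalRing A] {X P : Scheme.{u}}
    (f : X ⟶ Spec (CommRingCat.of A)) [LocallyOfFinitePresentation f] [QuasiCompact f] [QuasiSeparated f]
    (F : X.Modules) [F.IsQuasicoherent] (hF : CohB1.IsFP F) (x : X)
    (hx : f x = closedPoint (CommRingCat.of A))
    (g : P ⟶ Spec (CommRingCat.of A)) [IsProper g] [LocallyOfFinitePresentation g]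
    (hinj : Function.Injective (Coh.toGlobal g))
    (hflat : ∀ z : ↥(pullback f g), pullback.fst f g z = x →
      FlatMod.IsFlatOverAt (pullback.snd f g) ((Scheme.Modules.pullback (pullback.fst f g)).obj F) z) :
    FlatMod.IsFlatOverAt f F x := by
  have hnoeth : ∀ S : LimDescend.FgSub A, IsNoetherianRing S.1 := fun S => by
    haveI : Algebra.FiniteType ℤ S.1 := (Subalgebra.fg_iff_finiteType S.1).1 S.2
    exact Algebra.FiniteType.isNoetherianRing ℤ S.1
  let D := LimDescend.fgDiagram A
  let c := LimDescend.fgCone A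
  haveI hDaff : ∀ S : (LimDescend.FgSub A)ᵒᵖ, IsAffine (D.obj S) := fun S => by
    dsimp [D, LimDescend.fgDiagram]; infer_instance
  haveI : ∀ S : (LimDescend.FgSub A)ᵒᵖ, IsLocallyNoetherian (D.obj S) := fun S => by
    haveI := hnoeth S.unop
    show IsLocallyNoetherian (Spec (CommRingCat.of S.unop.1))
    infer_instance
  haveI : ∀ (S T : (LimDescend.FgSub A)ᵒᵖ) (h : S ⟶ T), IsAffineHom (D.map h) :=
    fun S T h => isAffineHom_of_isAffine _
  haveI : ∀ S : (LimDescend.FgSub A)ᵒᵖ, CompactSpace (D.obj S) := fun S =>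
    isCompact_univ_iff.mp (isAffineOpen_top (D.obj S)).isCompact
  haveI : ∀ S : (LimDescend.FgSub A)ᵒᵖ, QuasiSeparatedSpace (D.obj S) := fun S => inferInstance
  obtain ⟨k, M, G, N, Z, p, q, sq, hN, hG, ⟨e⟩, hk⟩ :=
    exists_stage_flat_above (c := c) (LimDescend.isLimitFgCone A) f F hF x g hflat
  haveI := hG.1
  haveI := M.lfp
  let Ak : Type u := ↥k.unop.1
  let π : Spec (CommRingCat.of A) ⟶ D.obj k := c.π.app k
  let y := M.hom (M.proj x)
  have hy : π (closedPoint (CommRingCat.of A)) = y := by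
    exact (congrArg π hx.symm).trans (congrArg (fun h : X ⟶ D.obj k => h x) M.isPullback.w).symm
  let φ : (D.obj k).presheaf.stalk y ⟶ CommRingCat.of A :=
    (D.obj k).presheaf.stalkSpecializes (specializes_of_eq hy) ≫ Scheme.stalkClosedPointTo π
  have hφ : Spec.map φ ≫ (D.obj k).fromSpecStalk y = π := by
    rw [Spec.map_comp, Category.assoc, Scheme.SpecMap_stalkSpecializes_fromSpecStalk,
      Scheme.Spec_stalkClosedPointTo_fromSpecStalk]
  have hφinj : Function.Injective φ.hom := by
    refine injective_of_stalk (R := Ak) y φ.hom ?_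
    have h1 : StructureSheaf.toStalk Ak y ≫ φ = CommRingCat.ofHom (algebraMap Ak A) := by
      refine Spec.map_injective ?_
      rw [Spec.map_comp]
      refine Eq.trans ?_ hφ
      congr 1
      exact (Spec.fromSpecStalk_eq' (CommRingCat.of Ak) y).symm
    have h2 : φ.hom.comp (algebraMap Ak ((Spec.structureSheaf Ak).presheaf.stalk y)) = algebraMap Ak A :=
      congrArg CommRingCat.Hom.hom h1
    rw [h2]
    exact Subtype.val_injective
  let R : Type u := ((D.obj k).presheaf.stalk y : Type u)
  let gR : pullback N.hom ((D.obj k).fromSpecStalk y) ⟶ Spec (CommRingCat.of R) :=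
    pullback.snd N.hom ((D.obj k).fromSpecStalk y)
  have hinjR : Function.Injective (Coh.toGlobal gR) := by
    refine injective_toGlobal_of_square gR g φ.hom
      (pullback.lift N.proj (g ≫ Spec.map φ) ?_) (pullback.lift_snd _ _ _) hφinj hinj
    rw [N.isPullback.w, Category.assoc, hφ]
  have h1 := isFlatOverAt_of_isLocallyNoetherian M.hom G hG N.hom (M.proj x) sq hinjR hk
  have h2 := FlatFP.isFlatOverAt_baseChange M.hom f M.proj π M.isPullback G x h1
  exact (FlatFP.isFlatOverAt_congr f e x).1 h2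

/-- The germ of a pulled back section vanishes when the function does on the local scheme. -/
theorem germ_app_eq_zero {P Y : Scheme.{u}} (g : P ⟶ Y) (z : P) (y : Y) (hy : g z = y) (V : Y.Opens) (hV : y ∈ V)
    (s : Γ(Y, V))
    (h : Coh.toGlobal (A := (Y.presheaf.stalk y : Type u)) (pullback.snd g (Y.fromSpecStalk y))
      (Y.presheaf.germ V y hV s) = 0) :
    P.presheaf.germ (g ⁻¹ᵁ V) z (show g z ∈ V from hy ▸ hV) (g.app V s) = 0 := by
  subst hy
  rw [← Scheme.Hom.germ_stalkMap_apply]
  let gA := pullback.snd g (Y.fromSpecStalk (g z))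
  let t : Spec (P.presheaf.stalk z) ⟶ pullback g (Y.fromSpecStalk (g z)) :=
    pullback.lift (P.fromSpecStalk z) (Spec.map (g.stalkMap z)) (Scheme.SpecMap_stalkMap_fromSpecStalk g).symm
  have ht : (Scheme.ΓSpecIso (Y.presheaf.stalk (g z))).inv ≫ gA.appTop ≫ t.appTop =
      g.stalkMap z ≫ (Scheme.ΓSpecIso (P.presheaf.stalk z)).inv := by
    rw [← Scheme.Hom.comp_appTop, pullback.lift_snd, ← Scheme.ΓSpecIso_inv_naturality]
  have h1 := ConcreteCategory.congr_hom ht (Y.presheaf.germ V (g z) hV s)
  have h2 : (t.appTop).hom (gA.appTop ((Scheme.ΓSpecIso (Y.presheaf.stalk (g z))).inv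
      (Y.presheaf.germ V (g z) hV s))) = 0 := (congrArg _ h).trans (map_zero _)
  have h3 := congrArg (Scheme.ΓSpecIso (P.presheaf.stalk z)).hom (h1.symm.trans h2)
  rw [map_zero] at h3
  exact (Iso.inv_hom_id_apply (Scheme.ΓSpecIso (P.presheaf.stalk z)) _).symm.trans h3

/-- Injectivity on stalks of the direct image gives injectivity over the local scheme. -/
theorem injective_toGlobal_stalk {P Y : Scheme.{u}} (g : P ⟶ Y) [UniversallyClosed g] (y : Y)
    (hinj : ∀ (V : Y.Opens) (s : Γ(Y, V)), y ∈ V → g.app V s = 0 →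
      ∃ W : Y.Opens, y ∈ W ∧ ∃ hWV : W ≤ V, Y.presheaf.map (homOfLE hWV).op s = 0) :
    Function.Injective (Coh.toGlobal (A := (Y.presheaf.stalk y : Type u)) (pullback.snd g (Y.fromSpecStalk y))) := by
  rw [injective_iff_map_eq_zero]
  intro a ha
  obtain ⟨V, hV, s, rfl⟩ := Y.presheaf.exists_germ_eq a
  let O : Set P := ⋃ (U : P.Opens) (hU : U ≤ g ⁻¹ᵁ V) (_ : P.presheaf.map (homOfLE hU).op (g.app V s) = 0),
    (U : Set P)
  have hO : IsOpen O := isOpen_iUnion fun U => isOpen_iUnion fun _ => isOpen_iUnion fun _ => U.2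
  have hC : IsClosed (g '' Oᶜ) := g.isClosedMap _ hO.isClosed_compl
  have hyC : y ∉ g '' Oᶜ := by
    rintro ⟨z, hz, rfl⟩
    refine hz ?_
    obtain ⟨U, hzU, iU, iV, e⟩ := P.presheaf.germ_eq z (U := g ⁻¹ᵁ V) (V := g ⁻¹ᵁ V) hV hV (g.app V s) 0
      ((germ_app_eq_zero g z (g z) rfl V hV s ha).trans (map_zero _).symm)
    simp only [map_zero] at e
    exact Set.mem_iUnion.2 ⟨U, Set.mem_iUnion.2 ⟨iU.le, Set.mem_iUnion.2 ⟨e, hzU⟩⟩⟩
  let W : Y.Opens := V ⊓ ⟨(g '' Oᶜ)ᶜ, hC.isOpen_compl⟩
  have hW : g.app W (Y.presheaf.map (homOfLE (inf_le_left : W ≤ V)).op s) = 0 := by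
    refine TopCat.Presheaf.section_ext P.sheaf _ _ _ fun z hz => ?_
    refine Eq.trans ?_ (map_zero _).symm
    have hzO : z ∈ O := by
      by_contra hn
      exact hz.2 ⟨z, hn, rfl⟩
    obtain ⟨U, hU⟩ := Set.mem_iUnion.1 hzO
    obtain ⟨hUV, hU⟩ := Set.mem_iUnion.1 hU
    obtain ⟨h0, hzU⟩ := Set.mem_iUnion.1 hU
    show P.presheaf.germ (g ⁻¹ᵁ W) z hz _ = 0
    rw [← Scheme.Hom.germ_stalkMap_apply, TopCat.Presheaf.germ_res_apply, Scheme.Hom.germ_stalkMap_apply,
      ← TopCat.Presheaf.germ_res_apply P.presheaf (homOfLE hUV) z hzU, h0, map_zero]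
  obtain ⟨W', hyW', hW'W, h0⟩ := hinj W _ ⟨hV, hyC⟩ hW
  rw [← ConcreteCategory.comp_apply, ← Functor.map_comp] at h0
  rw [← TopCat.Presheaf.germ_res_apply Y.presheaf (homOfLE (hW'W.trans inf_le_left)) y hyW']
  exact (congrArg _ h0).trans (map_zero _)

/-- **Descent of flatness by a proper base change that is injective on functions near the image.** -/
theorem isFlatOverAt_of_baseChange {X Y P Z : Scheme.{u}} (f : X ⟶ Y) [LocallyOfFinitePresentation f]
    (F : X.Modules) [F.IsQuasicoherent] (hF : CohB1.IsFP F) (x : X) (g : P ⟶ Y) [IsProper g]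
    [LocallyOfFinitePresentation g] {p : Z ⟶ X} {q : Z ⟶ P} (sq : IsPullback p q f g)
    (hinj : Function.Injective
      (Coh.toGlobal (A := (Y.presheaf.stalk (f x) : Type u)) (pullback.snd g (Y.fromSpecStalk (f x)))))
    (hflat : ∀ z, p z = x → FlatMod.IsFlatOverAt q ((Scheme.Modules.pullback p).obj F) z) :
    FlatMod.IsFlatOverAt f F x := by
  let A : Type u := (Y.presheaf.stalk (f x) : Type u)
  let b : Spec (CommRingCat.of A) ⟶ Y := Y.fromSpecStalk (f x)
  let gA : pullback g b ⟶ Spec (CommRingCat.of A) := pullback.snd g b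
  haveI : IsProper gA := inferInstanceAs (IsProper (pullback.snd g b))
  haveI : LocallyOfFinitePresentation gA := inferInstanceAs (LocallyOfFinitePresentation (pullback.snd g b))
  let fA : pullback f b ⟶ Spec (CommRingCat.of A) := pullback.snd f b
  haveI : LocallyOfFinitePresentation fA := inferInstanceAs (LocallyOfFinitePresentation (pullback.snd f b))
  obtain ⟨xA, hxA₁, hxA₂⟩ := Scheme.Pullback.exists_preimage_pullback (f := f) (g := b) x
    (closedPoint (CommRingCat.of A)) Scheme.fromSpecStalk_closedPoint.symm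
  obtain ⟨U, hU, hxU, -⟩ := exists_isAffineOpen_mem_and_subset (show xA ∈ (⊤ : (pullback f b).Opens) from trivial)
  haveI : IsAffine (U : Scheme.{u}) := hU
  haveI : IsAffineHom (U.ι ≫ fA) := isAffineHom_of_isAffine _
  let F₁ : (pullback f b).Modules := (Scheme.Modules.pullback (pullback.fst f b)).obj F
  haveI : F₁.IsQuasicoherent := FittSheaf.isQuasicoherent_pullback _ F
  let FU : (U : Scheme.{u}).Modules := (Scheme.Modules.pullback U.ι).obj F₁
  haveI : FU.IsQuasicoherent := FittSheaf.isQuasicoherent_pullback _ F₁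
  have hFU : CohB1.IsFP FU := FittSheaf.isFP_pullback _ _ (FittSheaf.isFP_pullback _ _ hF)
  have hmain : FlatMod.IsFlatOverAt (U.ι ≫ fA) FU ⟨xA, hxU⟩ := by
    refine isFlatOverAt_local A (U.ι ≫ fA) FU hFU ⟨xA, hxU⟩ ?_ gA hinj fun z hz => ?_
    · exact hxA₂
    · -- the base change to the local scheme
      let a' : pullback fA gA ⟶ Z := sq.lift (pullback.fst fA gA ≫ pullback.fst f b)
        (pullback.snd fA gA ≫ pullback.fst g b) (by
          rw [Category.assoc, Category.assoc, pullback.condition, pullback.condition, ← Category.assoc,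
            ← Category.assoc, pullback.condition])
      have sqA : IsPullback a' (pullback.snd fA gA) q (pullback.fst g b) := by
        refine IsPullback.of_right ?_ (sq.lift_snd _ _ _) sq
        rw [sq.lift_fst, pullback.condition]
        exact (IsPullback.of_hasPullback fA gA).paste_horiz (IsPullback.of_hasPullback f b)
      let j : pullback (U.ι ≫ fA) gA ⟶ pullback fA gA :=
        pullback.lift (pullback.fst _ _ ≫ U.ι) (pullback.snd _ _) (by rw [Category.assoc]; exact pullback.condition)
      have hj₁ : j ≫ pullback.fst fA gA = pullback.fst (U.ι ≫ fA) gA ≫ U.ι := pullback.lift_fst _ _ _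
      have hj₂ : j ≫ pullback.snd fA gA = pullback.snd (U.ι ≫ fA) gA := pullback.lift_snd _ _ _
      have sqU : IsPullback (pullback.fst (U.ι ≫ fA) gA) j U.ι (pullback.fst fA gA) := by
        refine IsPullback.of_bot ?_ hj₁.symm (IsPullback.of_hasPullback fA gA)
        rw [hj₂]
        exact IsPullback.of_hasPullback _ _
      haveI : IsOpenImmersion j := MorphismProperty.of_isPullback (P := @IsOpenImmersion) sqU inferInstance
      haveI := FittSheaf.isQuasicoherent_pullback p F
      have hz1 : p (a' (j z)) = x := by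
        rw [← Scheme.Hom.comp_apply, ← Scheme.Hom.comp_apply, sq.lift_fst, ← Category.assoc, hj₁,
          Scheme.Hom.comp_apply, Scheme.Hom.comp_apply, hz]
        exact hxA₁
      have h1 := FlatFP.isFlatOverAt_baseChange q (pullback.snd fA gA) a' _ sqA _ (j z) (hflat _ hz1)
      have h2 := (FlatDesc.isFlatOverAt_comp_pullback_iff j (pullback.snd fA gA) _ z).2 h1
      rw [FunFlat6.isFlatOverAt_congr_map hj₂] at h2
      refine (FlatFP.isFlatOverAt_congr _ ?_ z).1 h2
      exact (Scheme.Modules.pullbackComp j a').app _ ≪≫ (Scheme.Modules.pullbackComp (j ≫ a') p).app F ≪≫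
        (Scheme.Modules.pullbackCongr (by
          rw [Category.assoc, sq.lift_fst, ← Category.assoc, hj₁, Category.assoc])).app F ≪≫
        ((Scheme.Modules.pullbackComp _ _).app F).symm ≪≫ ((Scheme.Modules.pullbackComp _ _).app F₁).symm
  have h3 : FlatMod.IsFlatOverAt fA F₁ xA := (FlatDesc.isFlatOverAt_comp_pullback_iff U.ι fA F₁ ⟨xA, hxU⟩).1 hmain
  haveI : Flat b := FFDesc.flat_fromSpecStalk' Y (f x)
  have h4 := FunFlat6.isFlatOverAt_descend (IsPullback.of_hasPullback f b) F xA (Flat.stalkMap b _) h3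
  rwa [hxA₁] at h4

end GrothLib.InjFlat13
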