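import Groth.Agent.Lib.InjFlat13.Basic
import Groth.Agent.Lib.ArtRed3.Family
import Groth.Agent.Lib.FlatFP.BaseChangeAt
import Groth.Agent.Lib.ModDesc.Approx

/-!
# Descent of flatness by a proper base change injective on functions, Noetherian case
-/

set_option autoImplicit false
set_option backward.isDefEq.respectTransparency false
set_option linter.style.haveILetI false
set_option maxHeartbeats 1000000

universe u

open CategoryTheory CategoryTheory.Limits AlgebraicGeometry Opposite TopologicalSpace IsLocalRing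

noncomputable section

namespace GrothLib.InjFlat13

/-- Flatness of a pullback along a factored base change. -/
theorem flatAt_factor {X Y P Z T : Scheme.{u}} {f : X ⟶ Y} {g : P ⟶ Y} {p : Z ⟶ X} {q : Z ⟶ P}
    (sq : IsPullback p q f g) (F : X.Modules) [F.IsQuasicoherent] (t : T ⟶ P) (u : T ⟶ Y) (hu : t ≫ g = u)
    (x' : ↥(pullback f u))
    (h : ∀ z, p z = pullback.fst f u x' → q z = t (pullback.snd f u x') →
      FlatMod.IsFlatOverAt q ((Scheme.Modules.pullback p).obj F) z) :
    FlatMod.IsFlatOverAt (pullback.snd f u) ((Scheme.Modules.pullback (pullback.fst f u)).obj F) x' := by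
  subst hu
  let j : pullback f (t ≫ g) ⟶ Z := sq.lift (pullback.fst f (t ≫ g)) (pullback.snd f (t ≫ g) ≫ t)
    (by rw [pullback.condition, Category.assoc])
  have hj₁ : j ≫ p = pullback.fst f (t ≫ g) := sq.lift_fst _ _ _
  have hj₂ : j ≫ q = pullback.snd f (t ≫ g) ≫ t := sq.lift_snd _ _ _
  have sq' : IsPullback j (pullback.snd f (t ≫ g)) q t := by
    refine IsPullback.of_right ?_ hj₂ sq
    rw [hj₁]
    exact IsPullback.of_hasPullback f (t ≫ g)
  haveI := FittSheaf.isQuasicoherent_pullback p F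
  have h1 := FlatFP.isFlatOverAt_baseChange q (pullback.snd f (t ≫ g)) j t sq' _ x'
    (h (j x') (by rw [← Scheme.Hom.comp_apply, hj₁])
      (by rw [← Scheme.Hom.comp_apply, hj₂, Scheme.Hom.comp_apply]))
  exact (FlatFP.isFlatOverAt_congr _ ((Scheme.Modules.pullbackComp j p).app F ≪≫
    (Scheme.Modules.pullbackCongr hj₁).app F) x').1 h1

/-- **Descent of flatness by a proper base change, Noetherian case.** -/
theorem isFlatOverAt_of_isLocallyNoetherian {X Y P Z : Scheme.{u}} [IsLocallyNoetherian Y] (f : X ⟶ Y)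
    [LocallyOfFiniteType f] (F : X.Modules) (hF : Coh.IsCoh F) (g : P ⟶ Y) [IsProper g] (x : X)
    {p : Z ⟶ X} {q : Z ⟶ P} (sq : IsPullback p q f g)
    (hinj : Function.Injective
      (Coh.toGlobal (A := (Y.presheaf.stalk (f x) : Type u)) (pullback.snd g (Y.fromSpecStalk (f x)))))
    (hflat : ∀ z, p z = x → FlatMod.IsFlatOverAt q ((Scheme.Modules.pullback p).obj F) z) :
    FlatMod.IsFlatOverAt f F x := by
  classical
  haveI := hF.1
  let R : Type u := (Y.presheaf.stalk (f x) : Type u)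
  let gR : pullback g (Y.fromSpecStalk (f x)) ⟶ Spec (CommRingCat.of R) := pullback.snd g (Y.fromSpecStalk (f x))
  let PR := pullback g (Y.fromSpecStalk (f x))
  haveI : IsProper gR := inferInstanceAs (IsProper (pullback.snd g (Y.fromSpecStalk (f x))))
  haveI : IsNoetherianRing R := inferInstanceAs (IsNoetherianRing (Y.presheaf.stalk (f x)))
  haveI : IsLocallyNoetherian PR := LocallyOfFiniteType.isLocallyNoetherian gR
  let W : Type u := {w : PR // gR w = closedPoint (CommRingCat.of R)}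
  let J : ∀ i : W × ℕ, Ideal (PR.presheaf.stalk i.1.1) := fun i => (maximalIdeal R ^ (i.2 + 1)).map (toSt gR i.1.1)
  let A : W × ℕ → Type u := fun i => PR.presheaf.stalk i.1.1 ⧸ J i
  have hJ : ∀ i, J i ≤ maximalIdeal (PR.presheaf.stalk i.1.1) := fun i =>
    Ideal.map_le_iff_le_comap.2 ((Ideal.pow_le_self i.2.succ_ne_zero).trans
      ((apply_eq_closedPoint_iff gR i.1.1).1 i.1.2))
  haveI hnt : ∀ i, Nontrivial (A i) := fun i => Ideal.Quotient.nontrivial_iff.2
    (ne_top_of_le_ne_top (maximalIdeal.isMaximal _).ne_top (hJ i))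
  haveI hloc : ∀ i, IsLocalRing (A i) := fun i =>
    IsLocalRing.of_surjective' (Ideal.Quotient.mk (J i)) Ideal.Quotient.mk_surjective
  let φ : ∀ i, R →+* A i := fun i => (Ideal.Quotient.mk (J i)).comp (toSt gR i.1.1)
  haveI hlh : ∀ i, IsLocalHom (φ i) := fun i => by
    haveI := isLocalHom_toSt gR i.1.1 i.1.2
    haveI : IsLocalHom (Ideal.Quotient.mk (J i)) := IsLocalHom.of_surjective _ Ideal.Quotient.mk_surjective
    exact RingHom.isLocalHom_comp _ _
  have htop : ∀ N : ℕ, ∃ s : Finset ((W × ℕ) × ℕ),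
      ⨅ i ∈ s, Ideal.comap (φ i.1) (maximalIdeal (A i.1) ^ i.2) ≤ maximalIdeal R ^ N := by
    intro N
    obtain ⟨n, hn⟩ := exists_pow_le gR hinj N
    let I := maximalIdeal R ^ (n + 1)
    haveI : IsArtinianRing (R ⧸ I) := by
      haveI : Nontrivial (R ⧸ I) := Ideal.Quotient.nontrivial_iff.2
        (ne_top_of_le_ne_top (maximalIdeal.isMaximal R).ne_top (Ideal.pow_le_self n.succ_ne_zero))
      haveI : IsLocalRing (R ⧸ I) := IsLocalRing.of_surjective' (Ideal.Quotient.mk I) Ideal.Quotient.mk_surjective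
      haveI : IsLocalHom (Ideal.Quotient.mk I) := IsLocalHom.of_surjective _ Ideal.Quotient.mk_surjective
      rw [isArtinianRing_iff_isNilpotent_maximalIdeal]
      refine ⟨n + 1, ?_⟩
      rw [Ideal.zero_eq_bot, ← map_maximalIdeal_of_surjective (Ideal.Quotient.mk I) Ideal.Quotient.mk_surjective,
        ← Ideal.map_pow, Ideal.map_eq_bot_iff_le_ker, Ideal.mk_ker]
    let K : Finset (W × ℕ) → Ideal R := fun s =>
      ⨅ i ∈ s, Ideal.comap (φ (i.1, n)) (maximalIdeal (A (i.1, n)) ^ i.2)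
    have hIK : ∀ s, I ≤ K s := fun s => le_iInf₂ fun i _ a ha => by
      rw [Ideal.mem_comap]
      have : φ (i.1, n) a = 0 := Ideal.Quotient.eq_zero_iff_mem.2 (Ideal.mem_map_of_mem _ ha)
      rw [this]
      exact zero_mem _
    obtain ⟨M, ⟨s, rfl⟩, hmin⟩ := IsArtinian.set_has_minimal
      {M : Ideal (R ⧸ I) | ∃ s, M = (K s).map (Ideal.Quotient.mk I)} ⟨_, ∅, rfl⟩
    have hall : ∀ i : W × ℕ, K s ≤ Ideal.comap (φ (i.1, n)) (maximalIdeal (A (i.1, n)) ^ i.2) := fun i => by
      have hle : K (insert i s) ≤ K s := biInf_mono fun j hj => Finset.mem_insert_of_mem hj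
      have heq : (K (insert i s)).map (Ideal.Quotient.mk I) = (K s).map (Ideal.Quotient.mk I) :=
        ((Ideal.map_mono hle).lt_or_eq).resolve_left (hmin _ ⟨_, rfl⟩)
      have h2 := congrArg (Ideal.comap (Ideal.Quotient.mk I)) heq
      rw [Ideal.comap_map_of_surjective _ Ideal.Quotient.mk_surjective,
        Ideal.comap_map_of_surjective _ Ideal.Quotient.mk_surjective, ← RingHom.ker_eq_comap_bot, Ideal.mk_ker,
        sup_eq_left.2 (hIK _), sup_eq_left.2 (hIK _)] at h2
      exact h2.ge.trans (iInf₂_le i (Finset.mem_insert_self i s))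
    refine ⟨s.image fun i => ((i.1, n), i.2), le_trans ?_ (fun a ha => hn a fun w hw => ?_ : K s ≤ _)⟩
    · refine le_iInf₂ fun i hi => ?_
      exact iInf₂_le ((i.1, n), i.2) (Finset.mem_image.2 ⟨i, hi, rfl⟩)
    · have h0 : φ (⟨w, hw⟩, n) a = 0 := by
        haveI : IsNoetherianRing (A (⟨w, hw⟩, n)) :=
          inferInstanceAs (IsNoetherianRing (PR.presheaf.stalk w ⧸ J (⟨w, hw⟩, n)))
        rw [← Ideal.mem_bot, ← Ideal.iInf_pow_eq_bot_of_isLocalRing (maximalIdeal (A (⟨w, hw⟩, n)))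
          (maximalIdeal.isMaximal _).ne_top, Ideal.mem_iInf]
        exact fun k => hall (⟨w, hw⟩, k) ha
      exact Ideal.Quotient.eq_zero_iff_mem.1 h0
  refine ArtRed3.isFlatOverAt_of_forall_quot f F hF x fun m => ?_
  obtain ⟨s, hs⟩ := htop (m + 1)
  refine ⟨_, hs, fun x' hx' => ArtRed3.flat_quot_of_family f F hF x A φ s _ rfl
    (hs.trans (Ideal.pow_le_self m.succ_ne_zero)) ?_ x' hx'⟩
  intro i z hz1 _
  refine flatAt_factor sq F
    (Spec.map (CommRingCat.ofHom (Ideal.Quotient.mk (J i))) ≫ PR.fromSpecStalk i.1.1 ≫ pullback.fst g _) _ ?_ z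
    fun z' h1 _ => hflat z' (h1.trans hz1)
  rw [Category.assoc, Category.assoc, pullback.condition]
  show _ ≫ PR.fromSpecStalk i.1.1 ≫ gR ≫ _ = _
  rw [← Category.assoc (PR.fromSpecStalk i.1.1), fromSpecStalk_comp, ← Category.assoc, ← Spec.map_comp]
  rfl

end GrothLib.InjFlat13
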